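import Cfsg.Agent.H245.DG.Euclid
import Cfsg.Agent.H490.G2Gen
import Cfsg.Agent.H69.OutGF

/-!
# S4180, task C13: the automorphisms of `G₂(q)`, `Out` is cyclic (helper245)
-/

set_option autoImplicit false

namespace Cfsg.Agent.H245.DG.G2

open scoped Pointwise
open Cfsg Cfsg.Lie Cfsg.Agent.ChevalleyStructure.Elts Cfsg.Agent.Schreier.ChevLocal
open Cfsg.Agent.H70.ChevFix Cfsg.Agent.H70.ChevField Cfsg.Agent.H70.OutCount
open Cfsg.Agent.H490.G2

universe u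

variable {F : Type u} [Field F]

theorem fin_cases_rank (i : Fin chevG2.rank) : i = (0 : Fin 2) ∨ i = (1 : Fin 2) := by
  have : ∀ j : Fin 2, j = 0 ∨ j = 1 := by decide
  exact this i

/-- Automorphisms are determined by four root groups. -/
theorem ext4 {φ ψ : MulAut (K F)} (h7 : ∀ t : F, φ (xe hD 7 t) = ψ (xe hD 7 t))
    (h6 : ∀ t : F, φ (xe hD 6 t) = ψ (xe hD 6 t)) (h4 : ∀ t : F, φ (xe hD 4 t) = ψ (xe hD 4 t))
    (h5 : ∀ t : F, φ (xe hD 5 t) = ψ (xe hD 5 t)) : φ = ψ := by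
  apply ext_values hD
  · intro i t
    rcases fin_cases_rank i with rfl | rfl
    · show φ (xe hD (chevG2.simple 0) t) = ψ (xe hD (chevG2.simple 0) t)
      rw [s0, h7]
    · show φ (xe hD (chevG2.simple 1) t) = ψ (xe hD (chevG2.simple 1) t)
      rw [s1, h6]
  · intro i t
    rcases fin_cases_rank i with rfl | rfl
    · show φ (xe hD (chevG2.neg (chevG2.simple 0)) t) = ψ (xe hD (chevG2.neg (chevG2.simple 0)) t)
      rw [s0, n0, h4]
    · show φ (xe hD (chevG2.neg (chevG2.simple 1)) t) = ψ (xe hD (chevG2.neg (chevG2.simple 1)) t)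
      rw [s1, n1, h5]

/-- The automorphisms fixing the root groups. -/
theorem of_perm_one {φ : MulAut (K F)} (hφ : Perm chevG2 F φ 1) :
    ∃ (g : K F) (τ : F ≃+* F) (α : MulAut (K F)), IsField α τ ∧ φ = MulAut.conj g * α := by
  obtain ⟨c, σ, hc, h3, h4, h5⟩ := exists_field hD hφ
  obtain ⟨τ, hτ⟩ := sigma_eq hD (σ := σ) h5
  obtain ⟨α, hα⟩ := exists_isField τ
  obtain ⟨h, k1, k2, k3, k4⟩ := exists_torus (hc (0 : Fin 2)) (hc (1 : Fin 2))
  refine ⟨h, τ, α, hα, ?_⟩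
  apply ext_values hD
  · intro i t
    rw [h3, hτ, MulAut.mul_apply, MulAut.conj_apply]
    rcases fin_cases_rank i with rfl | rfl
    · show xe hD (chevG2.simple 0) _ = h * α (xe hD (chevG2.simple 0) t) * h⁻¹
      rw [s0, hα 7 (by norm_num), k1]
    · show xe hD (chevG2.simple 1) _ = h * α (xe hD (chevG2.simple 1) t) * h⁻¹
      rw [s1, hα 6 (by norm_num), k2]
  · intro i t
    rw [h4, hτ, MulAut.mul_apply, MulAut.conj_apply]
    rcases fin_cases_rank i with rfl | rfl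
    · show xe hD (chevG2.neg (chevG2.simple 0)) _ = h * α (xe hD (chevG2.neg (chevG2.simple 0)) t) * h⁻¹
      rw [s0, n0, hα 4 (by norm_num), k3]
    · show xe hD (chevG2.neg (chevG2.simple 1)) _ = h * α (xe hD (chevG2.neg (chevG2.simple 1)) t) * h⁻¹
      rw [s1, n1, hα 5 (by norm_num), k4]

theorem perm_cases (π : Equiv.Perm (Fin chevG2.rank)) : π = 1 ∨ π = H69.OutGF.flip2 := H69.OutGF.perm2 π

theorem aut_three_ne [Finite F] (h3 : (3 : F) ≠ 0) (hq : 3 ≤ Nat.card F) (ψ : MulAut (K F)) :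
    ∃ (g : K F) (τ : F ≃+* F) (α : MulAut (K F)), IsField α τ ∧ ψ = MulAut.conj g * α := by
  obtain ⟨x, π, -, -, h1, h2⟩ := exists_conj_perm (F := F) hD ψ
  have hφ : Perm chevG2 F (MulAut.conj x * ψ) π := ⟨h1, h2⟩
  rcases perm_cases π with rfl | rfl
  · obtain ⟨g, τ, α, hα, h⟩ := of_perm_one hφ
    refine ⟨x⁻¹ * g, τ, α, hα, ?_⟩
    rw [map_mul, map_inv, mul_assoc, ← h, inv_mul_cancel_left]
  · exact absurd ⟨_, hφ⟩ (H69.OutGF.flip2_not_mem h3 hq)

/-- The exceptional automorphism in characteristic three. -/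
structure IsGraph (ρ : MulAut (K F)) : Prop where
  h7 : ∀ t : F, ρ (xe hD 7 t) = xe hD 6 (t ^ 3)
  h6 : ∀ t : F, ρ (xe hD 6 t) = xe hD 7 t
  h4 : ∀ t : F, ρ (xe hD 4 t) = xe hD 5 (t ^ 3)
  h5 : ∀ t : F, ρ (xe hD 5 t) = xe hD 4 t

theorem exists_graph [Finite F] [CharP F 3] : ∃ ρ : MulAut (K F), IsGraph ρ := by
  have : Fact (Nat.Prime 3) := ⟨Nat.prime_three⟩
  obtain ⟨α, hα⟩ := Cfsg.Agent.S1099.result (K := F) (H69.OutGF.hperf 3)
  exact ⟨α, fun t => H69.OutGF.eq_xe hD ((hα (xe hD 7 t) t).1 (H69.OutGF.coe_coe_xe hD 7 t)),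
    fun t => H69.OutGF.eq_xe hD ((hα (xe hD 6 t) t).2.1 (H69.OutGF.coe_coe_xe hD 6 t)),
    fun t => H69.OutGF.eq_xe hD ((hα (xe hD 4 t) t).2.2.1 (H69.OutGF.coe_coe_xe hD 4 t)),
    fun t => H69.OutGF.eq_xe hD ((hα (xe hD 5 t) t).2.2.2 (H69.OutGF.coe_coe_xe hD 5 t))⟩

theorem IsGraph.perm [Finite F] [CharP F 3] {ρ : MulAut (K F)} (h : IsGraph ρ) :
    Perm chevG2 F ρ H69.OutGF.flip2 := by
  have : Fact (Nat.Prime 3) := ⟨Nat.prime_three⟩
  have h0 : (H69.OutGF.flip2 (0 : Fin 2) : ℕ) = 1 := rfl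
  have h1 : (H69.OutGF.flip2 (1 : Fin 2) : ℕ) = 0 := rfl
  have hcube : Function.Surjective (fun t : F => t ^ 3) := H69.OutGF.hperf 3
  refine ⟨fun i => ?_, fun i => ?_⟩
  · rcases fin_cases_rank i with rfl | rfl
    · rw [h0]
      show ρ • XX chevG2 F (chevG2.simple 0) = _
      rw [s0, s1]
      exact H69.OutGF.smul_XX hD (φ := ρ) hcube h.h7
    · rw [h1]
      show ρ • XX chevG2 F (chevG2.simple 1) = _
      rw [s0, s1]
      exact H69.OutGF.smul_XX hD (φ := ρ) (f := id) Function.surjective_id h.h6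
  · rcases fin_cases_rank i with rfl | rfl
    · rw [h0]
      show ρ • XX chevG2 F (chevG2.neg (chevG2.simple 0)) = _
      rw [s0, s1, n0, n1]
      exact H69.OutGF.smul_XX hD (φ := ρ) hcube h.h4
    · rw [h1]
      show ρ • XX chevG2 F (chevG2.neg (chevG2.simple 1)) = _
      rw [s0, s1, n0, n1]
      exact H69.OutGF.smul_XX hD (φ := ρ) (f := id) Function.surjective_id h.h5

theorem aut_three [Finite F] [CharP F 3] {ρ : MulAut (K F)} (hρ : IsGraph ρ) (ψ : MulAut (K F)) :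
    ∃ (g : K F) (τ : F ≃+* F) (α : MulAut (K F)), IsField α τ ∧
      (ψ = MulAut.conj g * α ∨ ψ = MulAut.conj g * (ρ * α)) := by
  obtain ⟨x, π, -, -, h1, h2⟩ := exists_conj_perm (F := F) hD ψ
  have hφ : Perm chevG2 F (MulAut.conj x * ψ) π := ⟨h1, h2⟩
  rcases perm_cases π with rfl | rfl
  · obtain ⟨g, τ, α, hα, h⟩ := of_perm_one hφ
    refine ⟨x⁻¹ * g, τ, α, hα, Or.inl ?_⟩
    rw [map_mul, map_inv, mul_assoc, ← h, inv_mul_cancel_left]
  · have h3 : Perm chevG2 F (ρ⁻¹ * (MulAut.conj x * ψ)) 1 := by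
      have := hρ.perm.inv.mul hφ
      rwa [inv_mul_cancel] at this
    obtain ⟨g, τ, α, hα, h⟩ := of_perm_one h3
    refine ⟨x⁻¹ * ρ g, τ, α, hα, Or.inr ?_⟩
    have h4 : MulAut.conj x * ψ = ρ * (MulAut.conj g * α) := by rw [← h, mul_inv_cancel_left]
    have h5 : ρ * MulAut.conj g = MulAut.conj (ρ g) * ρ := by
      ext z
      simp [MulAut.conj_apply]
    rw [map_mul, map_inv, mul_assoc, ← mul_assoc (MulAut.conj (ρ g)), ← h5, mul_assoc, ← h4, inv_mul_cancel_left]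

/-! ### `Out` is cyclic -/

theorem exists_pow (F : Type*) [Field F] [Finite F] (p : ℕ) [Fact p.Prime] [CharP F p] (τ : F ≃+* F) :
    ∃ n : ℕ, ∀ x : F, τ x = x ^ p ^ n := by
  classical
  have := Fintype.ofFinite F
  let _ : Algebra (ZMod p) F := ZMod.algebra F p
  let σ : F ≃ₐ[ZMod p] F := AlgEquiv.ofRingEquiv (f := τ) (fun x => by
    have : (τ : F →+* F).comp (algebraMap (ZMod p) F) = algebraMap (ZMod p) F := Subsingleton.elim _ _
    exact RingHom.congr_fun this x)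
  obtain ⟨n, hn⟩ := (FiniteField.bijective_frobeniusAlgEquivOfAlgebraic_pow (ZMod p) F).2 σ
  refine ⟨n, fun x => ?_⟩
  have h1 : τ x = σ x := rfl
  rw [h1, ← hn]
  show (FiniteField.frobeniusAlgEquivOfAlgebraic (ZMod p) F ^ (n : ℕ)) x = _
  rw [AlgEquiv.coe_pow, FiniteField.coe_frobeniusAlgEquivOfAlgebraic_iterate, ZMod.card]

theorem IsField.pow {α : MulAut (K F)} {p : ℕ} (h : ∀ r < 12, ∀ t : F, α (xe hD r t) = xe hD r (t ^ p)) (n : ℕ) :
    ∀ r < 12, ∀ t : F, (α ^ n) (xe hD r t) = xe hD r (t ^ p ^ n) := by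
  induction n with
  | zero => intro r _ t; rw [pow_zero, pow_zero, pow_one, MulAut.one_apply]
  | succ n ih =>
    intro r hr t
    rw [pow_succ, MulAut.mul_apply, h r hr, ih r hr, ← pow_mul, pow_succ, mul_comm]

/-- the quotient by the inner automorphisms -/
abbrev Q (F : Type u) [Field F] : Type u := MulAut (K F) ⧸ (MulAut.conj : K F →* MulAut (K F)).range

theorem mk_conj_mul (g : K F) (α : MulAut (K F)) : ((MulAut.conj g * α : MulAut (K F)) : Q F) = (α : Q F) := by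
  have h : ((MulAut.conj g : MulAut (K F)) : Q F) = 1 :=
    (QuotientGroup.eq_one_iff (N := (MulAut.conj : K F →* MulAut (K F)).range) (MulAut.conj g)).2 ⟨g, rfl⟩
  rw [QuotientGroup.mk_mul, h, one_mul]

theorem isCyclic_three_ne [Finite F] (h3 : (3 : F) ≠ 0) (hq : 3 ≤ Nat.card F) : IsCyclic (Q F) := by
  obtain ⟨p, hp⟩ := CharP.exists F
  have hpp : Fact p.Prime := ⟨CharP.char_is_prime F p⟩
  obtain ⟨α₀, hα₀⟩ := exists_isField (frobeniusEquiv F p)
  refine ⟨⟨(α₀ : Q F), fun z => ?_⟩⟩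
  induction z using QuotientGroup.induction_on with
  | _ ψ =>
    obtain ⟨g, τ, α, hα, rfl⟩ := aut_three_ne h3 hq ψ
    obtain ⟨n, hn⟩ := exists_pow F p τ
    refine ⟨n, ?_⟩
    show ((α₀ : Q F) ^ (n : ℤ)) = _
    rw [zpow_natCast, mk_conj_mul, ← QuotientGroup.mk_pow]
    congr 1
    have h1 : ∀ r < 12, ∀ t : F, α₀ (xe hD r t) = xe hD r (t ^ p) := by
      intro r hr t
      rw [hα₀ r hr, frobeniusEquiv_def]
    have h2 := IsField.pow h1 n
    apply ext4 <;> intro t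
    · rw [h2 7 (by norm_num), hα 7 (by norm_num), hn]
    · rw [h2 6 (by norm_num), hα 6 (by norm_num), hn]
    · rw [h2 4 (by norm_num), hα 4 (by norm_num), hn]
    · rw [h2 5 (by norm_num), hα 5 (by norm_num), hn]

theorem IsGraph.pow_even {ρ : MulAut (K F)} (h : IsGraph ρ) (n : ℕ) :
    (∀ t : F, (ρ ^ (2 * n)) (xe hD 7 t) = xe hD 7 (t ^ 3 ^ n)) ∧
    (∀ t : F, (ρ ^ (2 * n)) (xe hD 6 t) = xe hD 6 (t ^ 3 ^ n)) ∧
    (∀ t : F, (ρ ^ (2 * n)) (xe hD 4 t) = xe hD 4 (t ^ 3 ^ n)) ∧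
    (∀ t : F, (ρ ^ (2 * n)) (xe hD 5 t) = xe hD 5 (t ^ 3 ^ n)) := by
  induction n with
  | zero => simp
  | succ n ih =>
    obtain ⟨i1, i2, i3, i4⟩ := ih
    have e : ρ ^ (2 * (n + 1)) = ρ ^ (2 * n) * (ρ * ρ) := by
      rw [show 2 * (n + 1) = 2 * n + 2 by ring, pow_add, pow_two]
    have e3 : ∀ t : F, (t ^ 3) ^ 3 ^ n = t ^ 3 ^ (n + 1) := by
      intro t
      rw [← pow_mul, pow_succ, mul_comm]
    refine ⟨fun t => ?_, fun t => ?_, fun t => ?_, fun t => ?_⟩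
    · rw [e, MulAut.mul_apply, MulAut.mul_apply, h.h7, h.h6, i1, e3]
    · rw [e, MulAut.mul_apply, MulAut.mul_apply, h.h6, h.h7, i2, e3]
    · rw [e, MulAut.mul_apply, MulAut.mul_apply, h.h4, h.h5, i3, e3]
    · rw [e, MulAut.mul_apply, MulAut.mul_apply, h.h5, h.h4, i4, e3]

theorem isCyclic_three [Finite F] [CharP F 3] : IsCyclic (Q F) := by
  have : Fact (Nat.Prime 3) := ⟨Nat.prime_three⟩
  obtain ⟨ρ, hρ⟩ := exists_graph (F := F)
  refine ⟨⟨(ρ : Q F), fun z => ?_⟩⟩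
  induction z using QuotientGroup.induction_on with
  | _ ψ =>
    obtain ⟨g, τ, α, hα, h⟩ := aut_three hρ ψ
    obtain ⟨n, hn⟩ := exists_pow F 3 τ
    have hα' : α = ρ ^ (2 * n) := by
      obtain ⟨i1, i2, i3, i4⟩ := hρ.pow_even n
      apply ext4 <;> intro t
      · rw [i1, hα 7 (by norm_num), hn]
      · rw [i2, hα 6 (by norm_num), hn]
      · rw [i3, hα 4 (by norm_num), hn]
      · rw [i4, hα 5 (by norm_num), hn]
    rcases h with rfl | rfl
    · refine ⟨(2 * n : ℕ), ?_⟩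
      show ((ρ : Q F) ^ ((2 * n : ℕ) : ℤ)) = _
      rw [zpow_natCast, mk_conj_mul, ← QuotientGroup.mk_pow, hα']
    · refine ⟨(1 + 2 * n : ℕ), ?_⟩
      show ((ρ : Q F) ^ ((1 + 2 * n : ℕ) : ℤ)) = _
      rw [zpow_natCast, mk_conj_mul, ← QuotientGroup.mk_pow, hα', pow_add, pow_one]

end Cfsg.Agent.H245.DG.G2
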