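import Cfsg.Agent.H891.DG.Defs

/-!
# S4180, task C13: reduction of `Cos2` to pairs with an inner first member, cyclic `Out` (helper245)

* `lift_of_ker` : `Lift N x y` for all `x`, `y` if this holds when `φ x = 1`, `φ : G →* C`, `C` cyclic;
* `cos2_congr` : `Cos2` is invariant under isomorphisms;
* `cos2_of_two` : the pair `(1, 1)`.
-/

set_option autoImplicit false

namespace Cfsg.Agent.H245.DG

open Subgroup Cfsg.Agent.H891.Gen Cfsg.Agent.H891.DG

universe u v

section

variable {G : Type u} [Group G] {N : Subgroup G} [N.Normal]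

theorem pow_mul_mem {x s : G} (hs : s ∈ N) (k : ℤ) : (x * s) ^ (-k) * x ^ k ∈ N := by
  rw [← QuotientGroup.eq_one_iff]
  have h : ((x * s : G) : G ⧸ N) = (x : G ⧸ N) := by
    rw [QuotientGroup.mk_mul, (QuotientGroup.eq_one_iff s).2 hs, mul_one]
  rw [QuotientGroup.mk_mul, QuotientGroup.mk_zpow, QuotientGroup.mk_zpow, h, ← zpow_add, neg_add_cancel, zpow_zero]

/-- Nielsen move. -/
theorem lift_of_zpow_mul {x y : G} (k : ℤ) (h : Lift N x (x ^ k * y)) : Lift N x y := by
  obtain ⟨s, hs, t, ht, h⟩ := h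
  refine ⟨s, hs, y⁻¹ * ((x * s) ^ (-k) * (x ^ k * y * t)), ?_, ?_⟩
  · have h1 : y⁻¹ * ((x * s) ^ (-k) * (x ^ k * y * t)) = (y⁻¹ * ((x * s) ^ (-k) * x ^ k) * y) * t := by
      simp only [mul_assoc]
    rw [h1]
    refine N.mul_mem ?_ ht
    have h2 := ‹N.Normal›.conj_mem _ (pow_mul_mem (x := x) hs k) y⁻¹
    rwa [inv_inv] at h2
  · refine h.trans ?_
    rw [closure_le]
    have m1 : x * s ∈ closure ({x * s, y * (y⁻¹ * ((x * s) ^ (-k) * (x ^ k * y * t)))} : Set G) :=
      subset_closure (by simp)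
    have m2 : y * (y⁻¹ * ((x * s) ^ (-k) * (x ^ k * y * t))) ∈
        closure ({x * s, y * (y⁻¹ * ((x * s) ^ (-k) * (x ^ k * y * t)))} : Set G) :=
      subset_closure (by simp)
    rintro z (rfl | hz)
    · exact m1
    · rw [Set.mem_singleton_iff] at hz
      subst hz
      have h3 := mul_mem (zpow_mem m1 k) m2
      have h4 : (x * s) ^ k * (y * (y⁻¹ * ((x * s) ^ (-k) * (x ^ k * y * t)))) = x ^ k * y * t := by
        rw [mul_inv_cancel_left, zpow_neg, mul_inv_cancel_left]
      rw [h4] at h3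
      exact h3

theorem lift_of_ker {C : Type v} [Group C] [IsCyclic C] (φ : G →* C) (h : ∀ x y : G, φ x = 1 → Lift N x y)
    (x y : G) : Lift N x y := by
  obtain ⟨c, hc⟩ := IsCyclic.exists_generator (α := C)
  have key : ∀ n : ℕ, ∀ (x y : G) (a b : ℤ), a.natAbs = n → φ x = c ^ a → φ y = c ^ b → Lift N x y := by
    intro n
    induction n using Nat.strong_induction_on with
    | _ n ih =>
      intro x y a b hn hx hy
      by_cases ha : a = 0
      · rw [ha, zpow_zero] at hx
        exact h x y hx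
      · apply lift_of_zpow_mul (-(b / a))
        apply Lift.symm
        refine ih (b % a).natAbs ?_ _ _ (b % a) a rfl ?_ hx
        · rw [← hn]
          have h1 := Int.emod_nonneg b ha
          have h2 := Int.emod_lt_abs b ha
          rw [Int.abs_eq_natAbs] at h2
          omega
        · rw [map_mul, map_zpow, hx, hy, ← zpow_mul, ← zpow_add]
          congr 1
          have := Int.emod_add_mul_ediv b a
          linarith
  obtain ⟨a, ha⟩ := Subgroup.mem_zpowers_iff.1 (hc (φ x))
  obtain ⟨b, hb⟩ := Subgroup.mem_zpowers_iff.1 (hc (φ y))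
  exact key _ x y a b rfl ha.symm hb.symm

end

/-- `Cos2` is invariant under isomorphisms. -/
theorem cos2_congr {T : Type u} [Group T] {T' : Type v} [Group T'] (e : T ≃* T') (h : Cos2 T') : Cos2 T := by
  intro x y
  obtain ⟨s, ⟨s', hs⟩, t, ⟨t', ht⟩, hst⟩ := h (MulAut.congr e x) (MulAut.congr e y)
  have hconj : ∀ g : T', MulAut.congr e (MulAut.conj (e.symm g)) = MulAut.conj g := by
    intro g
    ext z
    simp [MulAut.congr]
  refine ⟨MulAut.conj (e.symm s'), ⟨_, rfl⟩, MulAut.conj (e.symm t'), ⟨_, rfl⟩, ?_⟩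
  have hmap : (closure ({x * MulAut.conj (e.symm s'), y * MulAut.conj (e.symm t')} : Set (MulAut T))).map
      (MulAut.congr e).toMonoidHom = closure ({MulAut.congr e x * s, MulAut.congr e y * t} : Set (MulAut T')) := by
    rw [MonoidHom.map_closure, Set.image_pair]
    congr 2
    · show MulAut.congr e (x * MulAut.conj (e.symm s')) = _
      rw [map_mul, hconj, hs]
    · show ({MulAut.congr e (y * MulAut.conj (e.symm t'))} : Set _) = _
      rw [map_mul, hconj, ht]
  rintro _ ⟨g, rfl⟩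
  have h1 : MulAut.congr e (MulAut.conj g) ∈ closure ({MulAut.congr e x * s, MulAut.congr e y * t} : Set (MulAut T')) := by
    apply hst
    refine ⟨e g, ?_⟩
    rw [← hconj, MulEquiv.symm_apply_apply]
  rw [← hmap] at h1
  obtain ⟨z, hz, hz'⟩ := h1
  have h2 : z = MulAut.conj g := (MulAut.congr e).injective hz'
  rwa [← h2]

/-- Both members inner: two-generation. -/
theorem lift_inner {T : Type u} [Group T] {a b : T} (h : closure ({a, b} : Set T) = ⊤) {x y : MulAut T}
    (hx : x ∈ (MulAut.conj : T →* MulAut T).range) (hy : y ∈ (MulAut.conj : T →* MulAut T).range) :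
    Lift (MulAut.conj : T →* MulAut T).range x y := by
  refine ⟨x⁻¹ * MulAut.conj a, mul_mem (inv_mem hx) ⟨a, rfl⟩, y⁻¹ * MulAut.conj b, mul_mem (inv_mem hy) ⟨b, rfl⟩, ?_⟩
  rw [mul_inv_cancel_left, mul_inv_cancel_left]
  have h1 : ({MulAut.conj a, MulAut.conj b} : Set (MulAut T)) = (MulAut.conj : T →* MulAut T) '' {a, b} := by
    rw [Set.image_pair]
  rw [h1, ← MonoidHom.map_closure, h, ← MonoidHom.range_eq_map]

/-- The coset of an inner automorphism and an arbitrary coset. -/
theorem lift_of_pair {T : Type u} [Group T] {x y : MulAut T} {h g : T} {φ : MulAut T}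
    (hx : x ∈ (MulAut.conj : T →* MulAut T).range) (hy : y⁻¹ * φ ∈ (MulAut.conj : T →* MulAut T).range)
    (hgen : (MulAut.conj : T →* MulAut T).range ≤ closure ({MulAut.conj h, MulAut.conj g * φ} : Set (MulAut T))) :
    Lift (MulAut.conj : T →* MulAut T).range x y := by
  refine ⟨x⁻¹ * MulAut.conj h, mul_mem (inv_mem hx) ⟨h, rfl⟩, y⁻¹ * (MulAut.conj g * φ), ?_, ?_⟩
  · obtain ⟨k, hk⟩ := hy
    refine ⟨(y⁻¹ : MulAut T) g * k, ?_⟩
    rw [map_mul, hk]
    ext z
    simp [MulAut.conj_apply, mul_assoc]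
  · rw [mul_inv_cancel_left, mul_inv_cancel_left]
    exact hgen

instance normal_inn {T : Type u} [Group T] : ((MulAut.conj : T →* MulAut T).range).Normal := by
  refine ⟨?_⟩
  rintro _ ⟨g, rfl⟩ φ
  refine ⟨φ g, ?_⟩
  ext z
  simp [MulAut.conj_apply]

end Cfsg.Agent.H245.DG
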