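import Cfsg.Agent.H245.DG.GTwoThree

/-!
# S4180, task C13 (3356): `Cos2` for `G₂(q)`, `q ≥ 3` (helper245)
-/

set_option autoImplicit false

namespace Cfsg.Agent.H245.DG.G2

open scoped Pointwise
open Cfsg Cfsg.Lie Cfsg.Agent.ChevalleyStructure.Elts Cfsg.Agent.Schreier.ChevLocal
open Cfsg.Agent.H70.ChevFix Cfsg.Agent.H70.ChevField Cfsg.Agent.H70.OutCount
open Cfsg.Agent.H490.G2 Cfsg.Agent.H135.TwoG Cfsg.Agent.ChevalleyStructure.W0Small
open Cfsg.Agent.H891.Gen Cfsg.Agent.H891.DG

universe u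

variable {F : Type u} [Field F]

theorem exists_gen [Finite F] (hq : 3 ≤ Nat.card F) :
    ∃ k : Fˣ, (∀ x : Fˣ, x ∈ Subgroup.zpowers k) ∧ (k : F) ≠ 1 := by
  obtain ⟨k, hk⟩ := IsCyclic.exists_generator (α := Fˣ)
  refine ⟨k, hk, fun h => ?_⟩
  have h1 : k = 1 := Units.ext h
  have h2 : ∀ x : Fˣ, x = 1 := by
    intro x
    have := hk x
    rwa [h1, Subgroup.zpowers_one_eq_bot, Subgroup.mem_bot] at this
  have h3 : Function.Surjective (fun i : Fin 2 => if i = 0 then (0 : F) else 1) := by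
    intro x
    by_cases hx : x = 0
    · exact ⟨0, by simp [hx]⟩
    · refine ⟨1, ?_⟩
      have := congrArg (fun u : Fˣ => (u : F)) (h2 (Units.mk0 x hx))
      simpa using this.symm
  have h4 := Nat.card_le_card_of_surjective _ h3
  rw [Nat.card_eq_fintype_card (α := Fin 2), Fintype.card_fin] at h4
  omega

theorem mem_inn_of_eq {x : MulAut (K F)} {g : K F} (φ : MulAut (K F)) (h : x = MulAut.conj g * φ) :
    x⁻¹ * φ ∈ (MulAut.conj : K F →* MulAut (K F)).range := by
  refine ⟨(x⁻¹ : MulAut (K F)) g⁻¹, ?_⟩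
  have e : MulAut.conj ((x⁻¹ : MulAut (K F)) g⁻¹) = x⁻¹ * MulAut.conj g⁻¹ * x := by
    ext z
    simp
  have e2 : φ = MulAut.conj g⁻¹ * x := by rw [h, map_inv, inv_mul_cancel_left]
  show MulAut.conj _ = _
  rw [e, mul_assoc, ← e2]

theorem two_gen [Finite F] (hq : 3 ≤ Nat.card F) : ∃ a b : K F, Subgroup.closure ({a, b} : Set (K F)) = ⊤ := by
  apply Cfsg.Agent.H136.TwoGen.of_ambient
  apply bigG2
  obtain ⟨k, -, hk⟩ := exists_gen hq
  exact ⟨k, k.ne_zero, hk⟩

theorem field_trivial [Finite F] [CharP F 3] (h : Nat.card F = 3) (τ : F ≃+* F) (x : F) : τ x = x := by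
  have : Fact (Nat.Prime 3) := ⟨Nat.prime_three⟩
  obtain ⟨n, hn⟩ := exists_pow F 3 τ
  have := Fintype.ofFinite F
  have h1 : x ^ 3 = x := by
    have := FiniteField.pow_card x
    rwa [← Nat.card_eq_fintype_card, h] at this
  rw [hn]
  induction n with
  | zero => rw [pow_zero, pow_one]
  | succ n ih =>
    have : ∀ n : ℕ, x ^ 3 ^ n = x := by
      intro n
      induction n with
      | zero => rw [pow_zero, pow_one]
      | succ n ih => rw [pow_succ, pow_mul, ih, h1]
    exact this _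

theorem charP_three (h3 : (3 : F) = 0) : CharP F 3 := by
  obtain ⟨p, hp⟩ := CharP.exists F
  have h1 : p ∣ 3 := (CharP.cast_eq_zero_iff F p 3).1 (by exact_mod_cast h3)
  rcases (Nat.dvd_prime Nat.prime_three).1 h1 with rfl | rfl
  · exact absurd rfl (CharP.ringChar_ne_one (R := F) |> fun h => by
      rw [ringChar.eq F 1] at h; exact h)
  · exact hp

theorem lift_inn [Finite F] (hq : 3 ≤ Nat.card F) (x y : MulAut (K F))
    (hx : x ∈ (MulAut.conj : K F →* MulAut (K F)).range) : Lift (MulAut.conj : K F →* MulAut (K F)).range x y := by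
  obtain ⟨k, hk, hk1⟩ := exists_gen hq
  by_cases h3 : (3 : F) = 0
  · have := charP_three h3
    obtain ⟨ρ, hρ⟩ := exists_graph (F := F)
    obtain ⟨g, τ, α, hα, h | h⟩ := aut_three hρ y
    · by_cases hq3 : Nat.card F = 3
      · have hα1 : α = 1 := by
          apply ext4 <;> intro t
          · rw [hα 7 (by norm_num), field_trivial hq3]; rfl
          · rw [hα 6 (by norm_num), field_trivial hq3]; rfl
          · rw [hα 4 (by norm_num), field_trivial hq3]; rfl
          · rw [hα 5 (by norm_num), field_trivial hq3]; rfl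
        obtain ⟨a, b, hab⟩ := two_gen hq
        exact lift_inner hab hx ⟨g, by rw [h, hα1, mul_one]⟩
      · exact lift_of_pair hx (mem_inn_of_eq α h) (gen_three_field (by omega) hα hk hk1)
    · exact lift_of_pair hx (mem_inn_of_eq (ρ * α) h) (gen_three_graph hρ hα hk hk1)
  · obtain ⟨g, τ, α, hα, h⟩ := aut_three_ne h3 hq y
    exact lift_of_pair hx (mem_inn_of_eq α h) (gen_ne h3 hα hk hk1)

theorem cos2 [Finite F] (hq : 3 ≤ Nat.card F) : Cos2 (K F) := by
  intro x y
  have hC : IsCyclic (Q F) := by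
    by_cases h3 : (3 : F) = 0
    · have := charP_three h3
      exact isCyclic_three
    · exact isCyclic_three_ne h3 hq
  refine lift_of_ker (QuotientGroup.mk' (MulAut.conj : K F →* MulAut (K F)).range) (fun x y hx => ?_) x y
  exact lift_inn hq x y ((QuotientGroup.eq_one_iff x).1 hx)

/-- Row C13. -/
theorem row (T : Type u) [Group T] [Finite T] [IsSimpleGroup T] (h : Cfsg.Lie.IsoChevG2 T) : Cos2 T := by
  obtain ⟨F, _, _, hF, ⟨e⟩⟩ := h
  refine cos2_congr e (cos2 ?_)
  rw [Nat.card_eq_fintype_card]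
  exact hF

end Cfsg.Agent.H245.DG.G2
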