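import Cfsg.Agent.H245.DG.GTwoAut

/-!
# S4180, task C13: generating pairs for `G₂(q)` twisted by automorphisms (helper245)
-/

set_option autoImplicit false

namespace Cfsg.Agent.H245.DG.G2

open scoped Pointwise
open Cfsg Cfsg.Lie Cfsg.Agent.ChevalleyStructure.Elts Cfsg.Agent.Schreier.ChevLocal
open Cfsg.Agent.H70.ChevFix Cfsg.Agent.H70.ChevField Cfsg.Agent.H70.OutCount
open Cfsg.Agent.H490.G2 Cfsg.Agent.H135.TwoG Cfsg.Agent.ChevalleyStructure.W0Small

universe u

/-! ### the torus trick -/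

section

variable {Γ : Type*} [Group Γ]

theorem key_comm {M : Subgroup Γ} {h u w : Γ} (hM : h ∈ M) (huw : u * w ∈ M)
    (hc : h * (w * h * w⁻¹) = (w * h * w⁻¹) * h) :
    h * (u * (w * h * w⁻¹) * u⁻¹ * (w * h * w⁻¹)⁻¹) * h⁻¹ * (u * (w * h * w⁻¹) * u⁻¹ * (w * h * w⁻¹)⁻¹)⁻¹ ∈ M := by
  set h₁ := w * h * w⁻¹ with hh₁
  have h3 : u * h₁ * u⁻¹ = (u * w) * h * (u * w)⁻¹ := by rw [hh₁]; group
  have h4 : u * h₁ * u⁻¹ ∈ M := by
    rw [h3]
    exact M.mul_mem (M.mul_mem huw hM) (M.inv_mem huw)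
  have h5 : h₁⁻¹ * h⁻¹ * h₁ = h⁻¹ := by
    have : h⁻¹ * h₁ = h₁ * h⁻¹ := by
      rw [inv_mul_eq_iff_eq_mul, ← mul_assoc, hc, mul_inv_cancel_right]
    rw [mul_assoc, this, inv_mul_cancel_left]
  have h6 : h * (u * h₁ * u⁻¹ * h₁⁻¹) * h⁻¹ * (u * h₁ * u⁻¹ * h₁⁻¹)⁻¹ =
      h * (u * h₁ * u⁻¹) * h⁻¹ * (u * h₁ * u⁻¹)⁻¹ := by
    calc h * (u * h₁ * u⁻¹ * h₁⁻¹) * h⁻¹ * (u * h₁ * u⁻¹ * h₁⁻¹)⁻¹
        = h * (u * h₁ * u⁻¹) * (h₁⁻¹ * h⁻¹ * h₁) * (u * h₁ * u⁻¹)⁻¹ := by group
      _ = _ := by rw [h5]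
  rw [h6]
  exact M.mul_mem (M.mul_mem (M.mul_mem hM h4) (M.inv_mem hM)) (M.inv_mem h4)

variable {A : Type*} [AddCommGroup A] {e : A → Γ}

theorem e_neg (he : ∀ x y, e (x + y) = e x * e y) (x : A) : e (-x) = (e x)⁻¹ := by
  have h0 : e 0 = 1 := by
    have := he 0 0
    rwa [add_zero, left_eq_mul] at this
  rw [eq_inv_iff_mul_eq_one, ← he, neg_add_cancel, h0]

theorem gen_comm (he : ∀ x y, e (x + y) = e x * e y) {H m : Γ} {K' L : A → A} (hK : ∀ x, H * e x * H⁻¹ = e (K' x))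
    (hL : ∀ x, m * e x * m⁻¹ = e (L x)) (u : A) :
    H * (e u * m * (e u)⁻¹ * m⁻¹) * H⁻¹ * (e u * m * (e u)⁻¹ * m⁻¹)⁻¹ = e (K' (u + L (-u)) - (u + L (-u))) := by
  have h1 : e u * m * (e u)⁻¹ * m⁻¹ = e (u + L (-u)) := by
    rw [he, ← hL, e_neg he]; group
  rw [h1, hK, sub_eq_add_neg, ← e_neg he (u + L (-u)), ← he]

end

/-! ### finite fields -/

section

variable {F : Type*} [Field F] [Finite F]

theorem exists_natpow {k : Fˣ} (hk : ∀ x : Fˣ, x ∈ Subgroup.zpowers k) {x : F} (hx : x ≠ 0) :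
    ∃ n : ℕ, (k : F) ^ n = x := by
  have h := hk (Units.mk0 x hx)
  rw [← mem_powers_iff_mem_zpowers] at h
  obtain ⟨n, hn⟩ := h
  refine ⟨n, ?_⟩
  have := congrArg (fun u : Fˣ => (u : F)) hn
  simpa using this

theorem field_top {k : Fˣ} (hk : ∀ x : Fˣ, x ∈ Subgroup.zpowers k) {A : AddSubgroup F}
    (h : ∀ s ∈ A, (k : F) * s ∈ A) {s : F} (hs : s ∈ A) (hs0 : s ≠ 0) (t : F) : t ∈ A := by
  have hpow : ∀ (n : ℕ), (k : F) ^ n * s ∈ A := by
    intro n
    induction n with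
    | zero => rwa [pow_zero, one_mul]
    | succ n ih =>
      have := h _ ih
      rwa [← mul_assoc, ← pow_succ'] at this
  by_cases ht : t = 0
  · rw [ht]; exact A.zero_mem
  · obtain ⟨n, hn⟩ := exists_natpow hk (div_ne_zero ht hs0)
    have := hpow n
    rwa [hn, div_mul_cancel₀ _ hs0] at this

theorem field_top' {k : Fˣ} (hk : ∀ x : Fˣ, x ∈ Subgroup.zpowers k) {A : AddSubgroup F}
    (h : ∀ s ∈ A, (k : F)⁻¹ * s ∈ A) {s : F} (hs : s ∈ A) (hs0 : s ≠ 0) (t : F) : t ∈ A := by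
  refine field_top (k := k⁻¹) (fun x => ?_) (fun s hs => ?_) hs hs0 t
  · rw [Subgroup.zpowers_inv]; exact hk x
  · rw [Units.val_inv_eq_inv_val]; exact h s hs

theorem pair_top [CharP F 3] (hq : 3 < Nat.card F) {k : Fˣ} (hk : ∀ x : Fˣ, x ∈ Subgroup.zpowers k)
    {A : AddSubgroup (F × F)} (h : ∀ s ∈ A, ((k : F) * s.1, (k : F)⁻¹ * s.2) ∈ A) {s t : F} (hst : (s, t) ∈ A)
    (hs : s ≠ 0) (ht : t ≠ 0) (z : F × F) : z ∈ A := by
  classical
  have h3 : (3 : F) = 0 := by exact_mod_cast CharP.cast_eq_zero F 3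
  have hpow : ∀ (n : ℕ), ((k : F) ^ n * s, ((k : F)⁻¹) ^ n * t) ∈ A := by
    intro n
    induction n with
    | zero => simpa using hst
    | succ n ih =>
      have := h _ ih
      simp only [← mul_assoc, ← pow_succ'] at this
      exact this
  have hx : ∀ x : F, x ≠ 0 → (x * s, x⁻¹ * t) ∈ A := by
    intro x hx
    obtain ⟨n, hn⟩ := exists_natpow hk hx
    have := hpow n
    rwa [inv_pow, hn] at this
  -- an element different from `0`, `1`, `-1`
  obtain ⟨x, hx0, hx1, hx2⟩ : ∃ x : F, x ≠ 0 ∧ x ≠ 1 ∧ x + 1 ≠ 0 := by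
    by_contra hcon
    push Not at hcon
    have h4 : Function.Surjective (fun i : Fin 3 => if i = 0 then (0 : F) else if i = 1 then 1 else -1) := by
      intro x
      by_cases h5 : x = 0
      · exact ⟨0, by simp [h5]⟩
      · by_cases h6 : x = 1
        · exact ⟨1, by simp [h6]⟩
        · refine ⟨2, ?_⟩
          have := hcon x h5 h6
          show (if (2 : Fin 3) = 0 then (0 : F) else if (2 : Fin 3) = 1 then 1 else -1) = x
          rw [if_neg (by decide), if_neg (by decide)]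
          linear_combination -this
    have h5 := Nat.card_le_card_of_surjective _ h4
    rw [Nat.card_eq_fintype_card (α := Fin 3), Fintype.card_fin] at h5
    omega
  have h4 : (0, ((1 + x)⁻¹ - 1 - x⁻¹) * t) ∈ A := by
    have hx2' : 1 + x ≠ 0 := by rwa [add_comm]
    have := A.sub_mem (A.sub_mem (hx (1 + x) hx2') hst) (hx x hx0)
    have e : ((1 + x) * s, (1 + x)⁻¹ * t) - (s, t) - (x * s, x⁻¹ * t) = (0, ((1 + x)⁻¹ - 1 - x⁻¹) * t) := by
      ext
      · simp; ring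
      · simp; ring
    rwa [e] at this
  have h5 : ((1 + x)⁻¹ - 1 - x⁻¹) * t ≠ 0 := by
    refine mul_ne_zero ?_ ht
    have hx2' : 1 + x ≠ 0 := by rwa [add_comm]
    intro h0
    have h6 : (1 + x)⁻¹ - 1 - x⁻¹ = -((x - 1) ^ 2 + 3 * x) / (x * (1 + x)) := by
      field_simp
      ring
    rw [h6, h3, zero_mul, add_zero, div_eq_zero_iff, neg_eq_zero] at h0
    rcases h0 with h0 | h0
    · exact hx1 (sub_eq_zero.1 (pow_eq_zero_iff (two_ne_zero)|>.1 h0))
    · exact mul_ne_zero hx0 hx2' h0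
  have h6 : ∀ y : F, (0, y) ∈ A := by
    let B : AddSubgroup F := A.comap (AddMonoidHom.inr F F)
    intro y
    have : y ∈ B := by
      refine field_top' hk (A := B) (fun a ha => ?_) (s := ((1 + x)⁻¹ - 1 - x⁻¹) * t) h4 h5 y
      have := h _ ha
      simpa [B] using this
    exact this
  have h7 : ∀ y : F, (y, 0) ∈ A := by
    let B : AddSubgroup F := A.comap (AddMonoidHom.inl F F)
    intro y
    have : y ∈ B := by
      refine field_top hk (A := B) (fun a ha => ?_) (s := s) ?_ hs y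
      · have := h _ ha
        simpa [B] using this
      · have := A.sub_mem hst (h6 t)
        simpa [B] using this
    exact this
  have := A.add_mem (h7 z.1) (h6 z.2)
  simpa using this

end

/-! ### the torus and the monomial group -/

variable {F : Type u} [Field F]

/-- the torus element -/
def T2 (a b : F) : K F := he hD (chevG2.simple 0) a * he hD (chevG2.simple 1) b

theorem T2_conj {a b : F} (ha : a ≠ 0) (hb : b ≠ 0) {s : ℕ} (hs : s < 12) (t : F) :
    T2 a b * xe hD s t * (T2 a b)⁻¹ = xe hD s (a ^ chevG2.cartan 0 s * b ^ chevG2.cartan 1 s * t) := by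
  calc _ = he hD (chevG2.simple 0) a * (he hD (chevG2.simple 1) b * xe hD s t * (he hD (chevG2.simple 1) b)⁻¹) *
        (he hD (chevG2.simple 0) a)⁻¹ := by rw [T2]; group
    _ = _ := by
      rw [he_conj hD (by decide : 1 < chevG2.rank) hs hb, he_conj hD (by decide : 0 < chevG2.rank) hs ha, mul_assoc]

theorem T2_mem {a b : F} (ha : a ≠ 0) (hb : b ≠ 0) : T2 a b ∈ HH chevG2 F :=
  mul_mem (he_mem_HH hD (by decide +kernel) ha) (he_mem_HH hD (by decide +kernel) hb)

theorem IsField.he' {α : MulAut (K F)} {τ : F ≃+* F} (h : IsField α τ) {r : ℕ} (hr : r < 12)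
    (hr' : chevG2.neg r < 12) (t : F) : α (he hD r t) = he hD r (τ t) := by
  rw [he_eq, map_mul, map_inv, h.ne hr hr', h.ne hr hr', map_one, ← he_eq]

theorem IsField.T2 {α : MulAut (K F)} {τ : F ≃+* F} (h : IsField α τ) (a b : F) : α (T2 a b) = T2 (τ a) (τ b) := by
  rw [G2.T2, map_mul, IsField.he' h (by decide +kernel) (by decide +kernel),
    IsField.he' h (by decide +kernel) (by decide +kernel)]
  rfl

theorem IsGraph.ne7 {ρ : MulAut (K F)} (h : IsGraph ρ) (t : F) : ρ (ne hD 7 t) = ne hD 6 (t ^ 3) := by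
  rw [ne_def, map_mul, map_mul, n0, h.h7, h.h4, ne_def, n1, Odd.neg_pow (by decide), inv_pow]

theorem IsGraph.ne6 {ρ : MulAut (K F)} (h : IsGraph ρ) (t : F) : ρ (ne hD 6 t) = ne hD 7 t := by
  rw [ne_def, map_mul, map_mul, n1, h.h6, h.h5, ne_def, n0]

theorem IsGraph.T2 {ρ : MulAut (K F)} (h : IsGraph ρ) {a b : F} (ha : a ≠ 0) (hb : b ≠ 0) :
    ρ (T2 a b) = T2 b (a ^ 3) := by
  rw [G2.T2, G2.T2, s0, s1, map_mul, he_eq, he_eq, map_mul, map_mul, map_inv, map_inv, h.ne7, h.ne7, h.ne6, h.ne6,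
    one_pow, ← he_eq, ← he_eq]
  exact HH_comm (he_mem_HH hD (by decide +kernel) (pow_ne_zero _ ha)) (he_mem_HH hD (by decide +kernel) hb)

variable (F) in
/-- the first reflection -/
def n1 : K F := ⟨wG hD F [0], wG_mem_group hD _⟩

theorem n1_eq : n1 F = ne hD 7 1 := by
  apply Subtype.ext
  show wG hD F [0] = nG hD 7 1
  simp [wG, s0]

theorem nw_eq : nw F = ne hD 7 1 * ne hD 6 1 := by
  apply Subtype.ext
  show wG hD F [0, 1] = nG hD 7 1 * nG hD 6 1
  simp [wG, s0, s1]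

theorem n1_conj {r : ℕ} (hr : r < 12) :
    ∃ c : F, c ≠ 0 ∧ ∀ t : F, n1 F * xe hD r t * (n1 F)⁻¹ = xe hD (wT tabG2 [0] r) (c * t) := by
  obtain ⟨η, hη, h⟩ := wG_conj (F := F) hD (l := [0]) (by decide) hr
  refine ⟨η, ?_, fun t => ?_⟩
  · rcases hη with rfl | rfl
    · exact one_ne_zero
    · exact neg_ne_zero.2 one_ne_zero
  · have e : wT tabG2 [0] r = wact chevG2 [0] r := wT_eq hD tabG2_ok (by decide) r hr
    rw [e]
    exact Subtype.ext (h t)

theorem n1_conj_HH {x : K F} (hx : x ∈ HH chevG2 F) : n1 F * x * (n1 F)⁻¹ ∈ HH chevG2 F :=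
  diag_conj (D := chevG2) hD (wG_mem_monomial hD (by decide)) hx

theorem conj_val {n T : K F} {r s : ℕ} {c χ : F} (hc : c ≠ 0) (hn : ∀ t : F, n * xe hD r t * n⁻¹ = xe hD s (c * t))
    (hT : ∀ t : F, T * xe hD r t * T⁻¹ = xe hD r (χ * t)) (t : F) :
    (n * T * n⁻¹) * xe hD s t * (n * T * n⁻¹)⁻¹ = xe hD s (χ * t) := by
  have h1 : n⁻¹ * xe hD s t * n = xe hD r (c⁻¹ * t) := by
    have h2 := hn (c⁻¹ * t)
    rw [mul_inv_cancel_left₀ hc] at h2
    rw [← h2]; group
  calc (n * T * n⁻¹) * xe hD s t * (n * T * n⁻¹)⁻¹ = n * (T * (n⁻¹ * xe hD s t * n) * T⁻¹) * n⁻¹ := by group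
    _ = _ := by
      rw [h1, hT, hn]
      congr 1
      field_simp

/-! ### the subgroup generated by the pair -/

section

variable {M : Subgroup (MulAut (K F))} {β : MulAut (K F)} {H U : K F}

theorem comm_mem' (hH : MulAut.conj H ∈ M) (hU : MulAut.conj U * β ∈ M) (hc : H * β H = β H * H) :
    MulAut.conj (H * (U * β H * U⁻¹ * (β H)⁻¹) * H⁻¹ * (U * β H * U⁻¹ * (β H)⁻¹)⁻¹) ∈ M := by
  have e : β * MulAut.conj H * β⁻¹ = MulAut.conj (β H) := by
    ext z
    simp [MulAut.conj_apply]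
  have h := key_comm (M := M) hH hU (by rw [e, ← map_mul, ← map_mul, hc])
  rw [e] at h
  simpa only [map_mul, map_inv] using h

variable {A : Type*} [AddCommGroup A] {e : A → K F}

/-- the elements of the module which are in `M` -/
def AM (M : Subgroup (MulAut (K F))) (he : ∀ x y, e (x + y) = e x * e y) : AddSubgroup A where
  carrier := {x | MulAut.conj (e x) ∈ M}
  zero_mem' := by
    show MulAut.conj (e 0) ∈ M
    have : e 0 = 1 := by
      have := he 0 0
      rwa [add_zero, left_eq_mul] at this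
    rw [this, map_one]; exact M.one_mem
  add_mem' := by
    intro s t hs ht
    show MulAut.conj (e (s + t)) ∈ M
    rw [he, map_mul]; exact M.mul_mem hs ht
  neg_mem' := by
    intro s hs
    show MulAut.conj (e (-s)) ∈ M
    rw [e_neg he, map_inv]; exact M.inv_mem hs

theorem mem_AM {he : ∀ x y, e (x + y) = e x * e y} {x : A} : x ∈ AM M he ↔ MulAut.conj (e x) ∈ M := Iff.rfl

theorem AM_smul {he : ∀ x y, e (x + y) = e x * e y} (hH : MulAut.conj H ∈ M) {K' : A → A}
    (hK : ∀ x, H * e x * H⁻¹ = e (K' x)) {x : A} (hx : x ∈ AM M he) : K' x ∈ AM M he := by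
  rw [mem_AM, ← hK, map_mul, map_mul, map_inv]
  exact M.mul_mem (M.mul_mem hH hx) (M.inv_mem hH)

theorem AM_start {he : ∀ x y, e (x + y) = e x * e y} (hH : MulAut.conj H ∈ M) {u : A}
    (hU : MulAut.conj (e u) * β ∈ M) (hc : H * β H = β H * H) {K' L : A → A}
    (hK : ∀ x, H * e x * H⁻¹ = e (K' x)) (hL : ∀ x, β H * e x * (β H)⁻¹ = e (L x)) :
    K' (u + L (-u)) - (u + L (-u)) ∈ AM M he := by
  rw [mem_AM, ← gen_comm he hK hL]
  exact comm_mem' hH hU hc

theorem comap_closed (hβ : β ∈ M) {m : K F} (hm : m ∈ M.comap (MulAut.conj : K F →* MulAut (K F))) :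
    β m ∈ M.comap (MulAut.conj : K F →* MulAut (K F)) := by
  rw [Subgroup.mem_comap] at hm ⊢
  have e : MulAut.conj (β m) = β * MulAut.conj m * β⁻¹ := by
    ext z
    simp [MulAut.conj_apply]
  rw [e]
  exact M.mul_mem (M.mul_mem hβ hm) (M.inv_mem hβ)

theorem range_le_of_comap (h : M.comap (MulAut.conj : K F →* MulAut (K F)) = ⊤) :
    (MulAut.conj : K F →* MulAut (K F)).range ≤ M := by
  rintro _ ⟨g, rfl⟩
  have : g ∈ M.comap (MulAut.conj : K F →* MulAut (K F)) := by rw [h]; exact Subgroup.mem_top g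
  exact this

end

/-! ### all root groups -/

theorem W_lt : ∀ r < 12, W r < 12 := by decide +kernel

/-- the root group is in `N` -/
abbrev In (N : Subgroup (K F)) (r : ℕ) : Prop := ∀ t : F, xe hD r t ∈ N

theorem rot {N : Subgroup (K F)} {β : MulAut (K F)} (hβ : ∀ m ∈ N, β m ∈ N) {τ : F ≃+* F}
    (hw : ∀ r < 12, ∃ c : F, c ≠ 0 ∧ ∀ t : F, β (xe hD r t) = xe hD (W r) (c * τ t)) {r : ℕ} (hr : r < 12)
    (h : In N r) : In N (W r) := by
  intro t
  obtain ⟨c, hc, h1⟩ := hw r hr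
  have h2 := h1 (τ.symm (c⁻¹ * t))
  rw [RingEquiv.apply_symm_apply, mul_inv_cancel_left₀ hc] at h2
  rw [← h2]
  exact hβ _ (h _)

theorem top_of {N : Subgroup (K F)} {β : MulAut (K F)} (hβ : ∀ m ∈ N, β m ∈ N) {τ : F ≃+* F}
    (hw : ∀ r < 12, ∃ c : F, c ≠ 0 ∧ ∀ t : F, β (xe hD r t) = xe hD (W r) (c * τ t)) (h4 : In N 4) (h0 : In N 0) :
    N = ⊤ := by
  have w4 : W 4 = 2 := by decide +kernel
  have w2 : W 2 = 3 := by decide +kernel
  have w3 : W 3 = 7 := by decide +kernel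
  have w7 : W 7 = 9 := by decide +kernel
  have w9 : W 9 = 8 := by decide +kernel
  have w0 : W 0 = 5 := by decide +kernel
  have w5 : W 5 = 10 := by decide +kernel
  have w10 : W 10 = 11 := by decide +kernel
  have w11 : W 11 = 6 := by decide +kernel
  have w6 : W 6 = 1 := by decide +kernel
  have h2 := rot hβ hw (by norm_num) h4
  rw [w4] at h2
  have h3 := rot hβ hw (by norm_num) h2
  rw [w2] at h3
  have h7 := rot hβ hw (by norm_num) h3
  rw [w3] at h7
  have h9 := rot hβ hw (by norm_num) h7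
  rw [w7] at h9
  have h8 := rot hβ hw (by norm_num) h9
  rw [w9] at h8
  have h5 := rot hβ hw (by norm_num) h0
  rw [w0] at h5
  have h10 := rot hβ hw (by norm_num) h5
  rw [w5] at h10
  have h11 := rot hβ hw (by norm_num) h10
  rw [w10] at h11
  have h6 := rot hβ hw (by norm_num) h11
  rw [w11] at h6
  have h1 := rot hβ hw (by norm_num) h6
  rw [w6] at h1
  have hall : chevG2.group F ≤ N.map (chevG2.group F).subtype := by
    rw [group_le_iff hD]
    intro r hr t
    have hr' : r < 12 := hr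
    have : ∀ t : F, xe hD r t ∈ N := by
      interval_cases r <;> assumption
    exact ⟨_, this t, rfl⟩
  rw [eq_top_iff]
  intro x _
  obtain ⟨y, hy, hy'⟩ := hall x.2
  have : y = x := Subtype.ext hy'
  exact this ▸ hy

theorem hw_of {α : MulAut (K F)} {τ : F ≃+* F} (hα : IsField α τ) :
    ∀ r < 12, ∃ c : F, c ≠ 0 ∧ ∀ t : F, (MulAut.conj (nw F) * α) (xe hD r t) = xe hD (W r) (c * τ t) := by
  intro r hr
  obtain ⟨c, hc, h3⟩ := nw_conj (F := F) hr
  refine ⟨c, hc, fun t => ?_⟩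
  rw [MulAut.mul_apply, hα r hr, MulAut.conj_apply, h3]

/-- Outside characteristic three the short root groups generate a long root group. -/
theorem comm_short' {N : Subgroup (K F)} (h3 : (3 : F) ≠ 0) (h2 : In N 2) (h3' : In N 3) : In N 0 := by
  intro t
  have m2 : xG hD 2 (1 : F) ∈ N.map (chevG2.group F).subtype := ⟨_, h2 1, rfl⟩
  have m3 : xG hD 3 (-(3⁻¹ * t)) ∈ N.map (chevG2.group F).subtype := ⟨_, h3' _, rfl⟩
  have h := comm_mem (F := F) hD (M := N.map (chevG2.group F).subtype) (r := 2) (s := 3) (by decide) (by decide)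
    (by decide) (by decide +kernel) m2 m3
  have hf : (chevG2.commTerms 2 3).filter (fun c => !(fun _ : ℕ => false) c.1) = [(0, 3, 1, 1)] := by decide +kernel
  have h4 := mem_of_filter hD (M := N.map (chevG2.group F).subtype) (P := fun _ => false) (by simp)
    (fun c : ℤ × ℕ × ℕ => (c.1 : F) * (-1) ^ c.2.1 * (-(3⁻¹ * t)) ^ c.2.2) _ hf h
  obtain ⟨x, hx, hx'⟩ := h4
  have h5 : x = xe hD 0 t := by
    apply Subtype.ext
    rw [coe_xe, ← Subgroup.coe_subtype, hx']
    show xG hD 0 (((3 : ℤ) : F) * (-1) ^ 1 * (-(3⁻¹ * t)) ^ 1) = _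
    congr 1
    push_cast
    field_simp
  rwa [h5] at hx

/-! ### the field automorphisms, characteristic different from three -/

theorem gen_ne [Finite F] (h3 : (3 : F) ≠ 0) {α : MulAut (K F)} {τ : F ≃+* F} (hα : IsField α τ) {k : Fˣ}
    (hk : ∀ x : Fˣ, x ∈ Subgroup.zpowers k) (hk1 : (k : F) ≠ 1) :
    (MulAut.conj : K F →* MulAut (K F)).range ≤
      Subgroup.closure {MulAut.conj (T2 1 (k : F)), MulAut.conj (xe hD 4 1 * nw F) * α} := by
  set M := Subgroup.closure ({MulAut.conj (T2 1 (k : F)), MulAut.conj (xe hD 4 1 * nw F) * α} : Set (MulAut (K F)))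
    with hM
  have mX : MulAut.conj (T2 1 (k : F)) ∈ M := Subgroup.subset_closure (by simp)
  have mY : MulAut.conj (xe hD 4 (1 : F)) * (MulAut.conj (nw F) * α) ∈ M := by
    rw [← mul_assoc, ← map_mul]
    exact Subgroup.subset_closure (by simp)
  set β := MulAut.conj (nw F) * α with hβ
  have hτ0 : τ (k : F) ≠ 0 := by rw [map_ne_zero]; exact k.ne_zero
  have hτ1 : τ (k : F) ≠ 1 := by
    intro h
    apply hk1
    apply τ.injective
    rw [h, map_one]
  have hβH : β (T2 1 (k : F)) = nw F * T2 1 (τ k) * (nw F)⁻¹ := by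
    rw [hβ, MulAut.mul_apply, IsField.T2 hα, map_one, MulAut.conj_apply]
  have hc : T2 1 (k : F) * β (T2 1 (k : F)) = β (T2 1 (k : F)) * T2 1 (k : F) := by
    rw [hβH]
    exact HH_comm (T2_mem one_ne_zero k.ne_zero) (nw_conj_HH (T2_mem one_ne_zero hτ0))
  have c14' : chevG2.cartan 1 4 = 1 := by decide +kernel
  have c18' : chevG2.cartan 1 8 = 1 := by decide +kernel
  have hK : ∀ x : F, T2 1 (k : F) * xe hD 4 x * (T2 1 (k : F))⁻¹ = xe hD 4 ((k : F) * x) := by
    intro x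
    rw [T2_conj one_ne_zero k.ne_zero (by norm_num), one_zpow, one_mul, c14', zpow_one]
  have hL : ∀ x : F, β (T2 1 (k : F)) * xe hD 4 x * (β (T2 1 (k : F)))⁻¹ = xe hD 4 (τ k * x) := by
    intro x
    obtain ⟨c, hc0, hct⟩ := nw_conj (F := F) (r := 8) (by norm_num)
    have w8 : W 8 = 4 := by decide +kernel
    rw [w8] at hct
    rw [hβH]
    refine conj_val hc0 hct (fun t => ?_) x
    rw [T2_conj one_ne_zero hτ0 (by norm_num), one_zpow, one_mul, c18', zpow_one]
  have he : ∀ x y : F, xe hD 4 (x + y) = xe hD 4 x * xe hD 4 y := fun x y => xe_add hD 4 x y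
  have hs := AM_start (M := M) (he := he) (β := β) mX (u := (1 : F)) mY hc hK hL
  have hs0 : (k : F) * (1 + τ k * -1) - (1 + τ k * -1) ≠ 0 := by
    have : (k : F) * (1 + τ k * -1) - (1 + τ k * -1) = ((k : F) - 1) * (1 - τ k) := by ring
    rw [this]
    exact mul_ne_zero (sub_ne_zero.2 hk1) (sub_ne_zero.2 (Ne.symm hτ1))
  have has4 : In (M.comap (MulAut.conj : K F →* MulAut (K F))) 4 := fun t =>
    field_top hk (A := AM M he) (fun s hs => AM_smul (M := M) (he := he) mX hK hs) hs hs0 t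
  have mβ : β ∈ M := by
    have h4 := M.mul_mem (M.inv_mem (has4 1)) mY
    rwa [inv_mul_cancel_left] at h4
  have hclosed : ∀ m ∈ M.comap (MulAut.conj : K F →* MulAut (K F)), β m ∈ M.comap (MulAut.conj : K F →* MulAut (K F)) :=
    fun m hm => comap_closed mβ hm
  have w4 : W 4 = 2 := by decide +kernel
  have w2 : W 2 = 3 := by decide +kernel
  have has2 := rot hclosed (hw_of hα) (by norm_num) has4
  rw [w4] at has2
  have has3 := rot hclosed (hw_of hα) (by norm_num) has2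
  rw [w2] at has3
  exact range_le_of_comap (top_of hclosed (hw_of hα) has4 (comm_short' h3 has2 has3))

end Cfsg.Agent.H245.DG.G2
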