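import Cfsg.Agent.H245.DG.GTwoGen
import Cfsg.Agent.H135.TwoGenTab
import Cfsg.Agent.H136.TwoGen

/-!
# S4180, task C13: generating pairs for `G₂(3^f)` (helper245)
-/

set_option autoImplicit false

namespace Cfsg.Agent.H245.DG.G2

open scoped Pointwise
open Cfsg Cfsg.Lie Cfsg.Agent.ChevalleyStructure.Elts Cfsg.Agent.Schreier.ChevLocal
open Cfsg.Agent.H70.ChevFix Cfsg.Agent.H70.ChevField Cfsg.Agent.H70.OutCount
open Cfsg.Agent.H490.G2 Cfsg.Agent.H135.TwoG Cfsg.Agent.ChevalleyStructure.W0Small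

universe u

variable {F : Type u} [Field F]

theorem comm40 (s t : F) : xe hD 4 s * xe hD 0 t = xe hD 0 t * xe hD 4 s := by
  apply Subtype.ext
  have h := comm_word (F := F) hD (r := 0) (s := 4) (by decide) (by decide) (by decide) (by decide +kernel) t s
  have h1 : chevG2.commTerms 0 4 = [] := by decide +kernel
  have h2 : chevG2.commWord F 0 4 t s = [] := by rw [ChevalleyDatum.commWord, h1]; rfl
  rw [h2] at h
  have h3 : wordG (F := F) hD [] = 1 := rfl
  rw [h3, mul_one] at h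
  exact h

/-- the module generated by a short and a long root group -/
def e2 (p : F × F) : K F := xe hD 4 p.1 * xe hD 0 p.2

theorem e2_add (p q : F × F) : e2 (p + q) = e2 p * e2 q := by
  rw [e2, e2, e2, Prod.fst_add, Prod.snd_add, xe_add, xe_add]
  calc xe hD 4 p.1 * xe hD 4 q.1 * (xe hD 0 p.2 * xe hD 0 q.2)
      = xe hD 4 p.1 * (xe hD 4 q.1 * xe hD 0 p.2) * xe hD 0 q.2 := by group
    _ = _ := by rw [comm40]; group

theorem gen_three_field [Finite F] [CharP F 3] (hq : 3 < Nat.card F) {α : MulAut (K F)} {τ : F ≃+* F}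
    (hα : IsField α τ) {k : Fˣ} (hk : ∀ x : Fˣ, x ∈ Subgroup.zpowers k) (hk1 : (k : F) ≠ 1) :
    (MulAut.conj : K F →* MulAut (K F)).range ≤
      Subgroup.closure {MulAut.conj (T2 1 (k : F)), MulAut.conj (e2 (1, 1) * nw F) * α} := by
  set M := Subgroup.closure ({MulAut.conj (T2 1 (k : F)), MulAut.conj (e2 (1, 1) * nw F) * α} : Set (MulAut (K F)))
    with hM
  have mX : MulAut.conj (T2 1 (k : F)) ∈ M := Subgroup.subset_closure (by simp)
  have mY : MulAut.conj (e2 ((1 : F), (1 : F))) * (MulAut.conj (nw F) * α) ∈ M := by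
    rw [← mul_assoc, ← map_mul]
    exact Subgroup.subset_closure (by simp)
  set β := MulAut.conj (nw F) * α with hβ
  have hτ0 : τ (k : F) ≠ 0 := by rw [map_ne_zero]; exact k.ne_zero
  have hτ1 : τ (k : F) ≠ 1 := by
    intro h
    apply hk1
    apply τ.injective
    rw [h, map_one]
  have hβH : β (T2 1 (k : F)) = nw F * T2 1 (τ k) * (nw F)⁻¹ := by
    rw [hβ, MulAut.mul_apply, IsField.T2 hα, map_one, MulAut.conj_apply]
  have hc : T2 1 (k : F) * β (T2 1 (k : F)) = β (T2 1 (k : F)) * T2 1 (k : F) := by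
    rw [hβH]
    exact HH_comm (T2_mem one_ne_zero k.ne_zero) (nw_conj_HH (T2_mem one_ne_zero hτ0))
  have c14' : chevG2.cartan 1 4 = 1 := by decide +kernel
  have c18' : chevG2.cartan 1 8 = 1 := by decide +kernel
  have c10' : chevG2.cartan 1 0 = -1 := by decide +kernel
  have c11' : chevG2.cartan 1 1 = 1 := by decide +kernel
  have hK : ∀ x : F × F, T2 1 (k : F) * e2 x * (T2 1 (k : F))⁻¹ = e2 ((k : F) * x.1, (k : F)⁻¹ * x.2) := by
    intro x
    have h1 : T2 1 (k : F) * xe hD 4 x.1 * (T2 1 (k : F))⁻¹ = xe hD 4 ((k : F) * x.1) := by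
      rw [T2_conj one_ne_zero k.ne_zero (by norm_num), one_zpow, one_mul, c14', zpow_one]
    have h2 : T2 1 (k : F) * xe hD 0 x.2 * (T2 1 (k : F))⁻¹ = xe hD 0 ((k : F)⁻¹ * x.2) := by
      rw [T2_conj one_ne_zero k.ne_zero (by norm_num), one_zpow, one_mul, c10', zpow_neg_one]
    show _ = xe hD 4 ((k : F) * x.1) * xe hD 0 ((k : F)⁻¹ * x.2)
    rw [← h1, ← h2, e2]
    group
  have hL : ∀ x : F × F, β (T2 1 (k : F)) * e2 x * (β (T2 1 (k : F)))⁻¹ = e2 (τ k * x.1, τ k * x.2) := by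
    intro x
    obtain ⟨c, hc0, hct⟩ := nw_conj (F := F) (r := 8) (by norm_num)
    have w8 : W 8 = 4 := by decide +kernel
    rw [w8] at hct
    obtain ⟨d, hd0, hdt⟩ := nw_conj (F := F) (r := 1) (by norm_num)
    have w1 : W 1 = 0 := by decide +kernel
    rw [w1] at hdt
    have h1 : (nw F * T2 1 (τ k) * (nw F)⁻¹) * xe hD 4 x.1 * (nw F * T2 1 (τ k) * (nw F)⁻¹)⁻¹ =
        xe hD 4 (τ k * x.1) := by
      refine conj_val hc0 hct (fun t => ?_) x.1
      rw [T2_conj one_ne_zero hτ0 (by norm_num), one_zpow, one_mul, c18', zpow_one]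
    have h2 : (nw F * T2 1 (τ k) * (nw F)⁻¹) * xe hD 0 x.2 * (nw F * T2 1 (τ k) * (nw F)⁻¹)⁻¹ =
        xe hD 0 (τ k * x.2) := by
      refine conj_val hd0 hdt (fun t => ?_) x.2
      rw [T2_conj one_ne_zero hτ0 (by norm_num), one_zpow, one_mul, c11', zpow_one]
    show _ = xe hD 4 (τ k * x.1) * xe hD 0 (τ k * x.2)
    rw [← h1, ← h2, hβH, e2]
    group
  have hs := AM_start (M := M) (he := e2_add) (β := β) mX (u := ((1 : F), (1 : F))) mY hc hK hL
  have e1 : (k : F) * (1 + τ k * -1) - (1 + τ k * -1) = ((k : F) - 1) * (1 - τ k) := by ring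
  have e2' : (k : F)⁻¹ * (1 + τ k * -1) - (1 + τ k * -1) = ((k : F)⁻¹ - 1) * (1 - τ k) := by ring
  have hki : (k : F)⁻¹ ≠ 1 := by
    intro h
    apply hk1
    rw [← inv_inv (k : F), h, inv_one]
  have hall := pair_top hq hk (A := AM M e2_add) (fun s hs => AM_smul (M := M) (he := e2_add) mX hK hs)
    (s := (k : F) * (1 + τ k * -1) - (1 + τ k * -1)) (t := (k : F)⁻¹ * (1 + τ k * -1) - (1 + τ k * -1)) hs
    (by rw [e1]; exact mul_ne_zero (sub_ne_zero.2 hk1) (sub_ne_zero.2 (Ne.symm hτ1)))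
    (by rw [e2']; exact mul_ne_zero (sub_ne_zero.2 hki) (sub_ne_zero.2 (Ne.symm hτ1)))
  have hz : ∀ r : ℕ, xe hD r (0 : F) = 1 := fun r => Subtype.ext (xG_zero hD r)
  have has4 : In (M.comap (MulAut.conj : K F →* MulAut (K F))) 4 := by
    intro t
    have h := hall (t, 0)
    rw [mem_AM, e2, hz, mul_one] at h
    exact h
  have has0 : In (M.comap (MulAut.conj : K F →* MulAut (K F))) 0 := by
    intro t
    have h := hall (0, t)
    rw [mem_AM, e2, hz, one_mul] at h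
    exact h
  have mβ : β ∈ M := by
    have h4 := M.mul_mem (M.inv_mem (mem_AM.1 (hall (1, 1)))) mY
    rwa [inv_mul_cancel_left] at h4
  exact range_le_of_comap (top_of (fun m hm => comap_closed mβ hm) (hw_of hα) has4 has0)

/-! ### graph type -/

theorem gen_three_graph [Finite F] [CharP F 3] {ρ α : MulAut (K F)} {τ : F ≃+* F} (hρ : IsGraph ρ)
    (hα : IsField α τ) {k : Fˣ} (hk : ∀ x : Fˣ, x ∈ Subgroup.zpowers k) (hk1 : (k : F) ≠ 1) :
    (MulAut.conj : K F →* MulAut (K F)).range ≤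
      Subgroup.closure {MulAut.conj (T2 (k : F) (k : F)), MulAut.conj (xe hD 4 1 * n1 F) * (ρ * α)} := by
  have : Fact (Nat.Prime 3) := ⟨Nat.prime_three⟩
  set M := Subgroup.closure ({MulAut.conj (T2 (k : F) (k : F)), MulAut.conj (xe hD 4 1 * n1 F) * (ρ * α)} :
    Set (MulAut (K F))) with hM
  have mX : MulAut.conj (T2 (k : F) (k : F)) ∈ M := Subgroup.subset_closure (by simp)
  have mY : MulAut.conj (xe hD 4 (1 : F)) * (MulAut.conj (n1 F) * (ρ * α)) ∈ M := by
    rw [← mul_assoc, ← map_mul]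
    exact Subgroup.subset_closure (by simp)
  set β := MulAut.conj (n1 F) * (ρ * α) with hβ
  have hτ0 : τ (k : F) ≠ 0 := by rw [map_ne_zero]; exact k.ne_zero
  have hτ1 : τ (k : F) ≠ 1 := by
    intro h
    apply hk1
    apply τ.injective
    rw [h, map_one]
  have hτ3 : (τ (k : F)) ^ 3 ≠ 0 := pow_ne_zero _ hτ0
  have hβH : β (T2 (k : F) (k : F)) = n1 F * T2 (τ k) ((τ k) ^ 3) * (n1 F)⁻¹ := by
    rw [hβ, MulAut.mul_apply, MulAut.mul_apply, IsField.T2 hα, IsGraph.T2 hρ hτ0 hτ0, MulAut.conj_apply]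
  have hc : T2 (k : F) (k : F) * β (T2 (k : F) (k : F)) = β (T2 (k : F) (k : F)) * T2 (k : F) (k : F) := by
    rw [hβH]
    exact HH_comm (T2_mem k.ne_zero k.ne_zero) (n1_conj_HH (T2_mem hτ0 hτ3))
  have c04' : chevG2.cartan 0 4 = -2 := by decide +kernel
  have c14' : chevG2.cartan 1 4 = 1 := by decide +kernel
  have c07' : chevG2.cartan 0 7 = 2 := by decide +kernel
  have c17' : chevG2.cartan 1 7 = -1 := by decide +kernel
  have hK : ∀ x : F, T2 (k : F) (k : F) * xe hD 4 x * (T2 (k : F) (k : F))⁻¹ = xe hD 4 ((k : F)⁻¹ * x) := by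
    intro x
    rw [T2_conj k.ne_zero k.ne_zero (by norm_num), c04', c14', ← zpow_add₀ k.ne_zero]
    norm_num
  have hL : ∀ x : F, β (T2 (k : F) (k : F)) * xe hD 4 x * (β (T2 (k : F) (k : F)))⁻¹ = xe hD 4 ((τ k)⁻¹ * x) := by
    intro x
    obtain ⟨c, hc0, hct⟩ := n1_conj (F := F) (r := 7) (by norm_num)
    have w7 : wT tabG2 [0] 7 = 4 := by decide +kernel
    rw [w7] at hct
    rw [hβH]
    refine conj_val hc0 hct (fun t => ?_) x
    rw [T2_conj hτ0 hτ3 (by norm_num), c07', c17', zpow_neg_one]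
    congr 2
    field_simp
  have he : ∀ x y : F, xe hD 4 (x + y) = xe hD 4 x * xe hD 4 y := fun x y => xe_add hD 4 x y
  have hs := AM_start (M := M) (he := he) (β := β) mX (u := (1 : F)) mY hc hK hL
  have hki : (k : F)⁻¹ ≠ 1 := by
    intro h
    apply hk1
    rw [← inv_inv (k : F), h, inv_one]
  have hti : (τ (k : F))⁻¹ ≠ 1 := by
    intro h
    apply hτ1
    rw [← inv_inv (τ (k : F)), h, inv_one]
  have hs0 : (k : F)⁻¹ * (1 + (τ k)⁻¹ * -1) - (1 + (τ k)⁻¹ * -1) ≠ 0 := by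
    have : (k : F)⁻¹ * (1 + (τ k)⁻¹ * -1) - (1 + (τ k)⁻¹ * -1) = ((k : F)⁻¹ - 1) * (1 - (τ k)⁻¹) := by ring
    rw [this]
    exact mul_ne_zero (sub_ne_zero.2 hki) (sub_ne_zero.2 (Ne.symm hti))
  have has4 : In (M.comap (MulAut.conj : K F →* MulAut (K F))) 4 := fun t =>
    field_top' hk (A := AM M he) (fun s hs => AM_smul (M := M) (he := he) mX hK hs) hs hs0 t
  have mβ : β ∈ M := by
    have h4 := M.mul_mem (M.inv_mem (has4 1)) mY
    rwa [inv_mul_cancel_left] at h4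
  have hclosed : ∀ m ∈ M.comap (MulAut.conj : K F →* MulAut (K F)), β m ∈ M.comap (MulAut.conj : K F →* MulAut (K F)) :=
    fun m hm => comap_closed mβ hm
  -- the square of `β`
  let τ' : F ≃+* F := (τ.trans τ).trans (frobeniusEquiv F 3)
  have hτ' : ∀ t : F, τ' t = (τ (τ t)) ^ 3 := fun t => by
    show frobeniusEquiv F 3 (τ (τ t)) = _
    rw [frobeniusEquiv_def]
  obtain ⟨α', hα'⟩ := exists_isField τ'
  have hφ : (ρ * α) * (ρ * α) = α' := by
    apply ext4 <;> intro t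
    · rw [MulAut.mul_apply, MulAut.mul_apply, MulAut.mul_apply, hα 7 (by norm_num), hρ.h7, hα 6 (by norm_num), hρ.h6,
        hα' 7 (by norm_num), hτ', map_pow]
    · rw [MulAut.mul_apply, MulAut.mul_apply, MulAut.mul_apply, hα 6 (by norm_num), hρ.h6, hα 7 (by norm_num), hρ.h7,
        hα' 6 (by norm_num), hτ']
    · rw [MulAut.mul_apply, MulAut.mul_apply, MulAut.mul_apply, hα 4 (by norm_num), hρ.h4, hα 5 (by norm_num), hρ.h5,
        hα' 4 (by norm_num), hτ', map_pow]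
    · rw [MulAut.mul_apply, MulAut.mul_apply, MulAut.mul_apply, hα 5 (by norm_num), hρ.h5, hα 4 (by norm_num), hρ.h4,
        hα' 5 (by norm_num), hτ']
  have hn : (ρ * α) (n1 F) = ne hD 6 1 := by
    rw [n1_eq, MulAut.mul_apply, IsField.ne hα (by norm_num) (by decide +kernel), map_one, IsGraph.ne7 hρ, one_pow]
  have hββ : β * β = MulAut.conj (nw F) * α' := by
    have e : (ρ * α) * MulAut.conj (n1 F) = MulAut.conj ((ρ * α) (n1 F)) * (ρ * α) := by
      ext z
      simp [MulAut.conj_apply]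
    calc β * β = MulAut.conj (n1 F) * ((ρ * α) * MulAut.conj (n1 F)) * (ρ * α) := by rw [hβ]; group
      _ = MulAut.conj (n1 F) * (MulAut.conj (ne hD 6 1)) * ((ρ * α) * (ρ * α)) := by rw [e, hn]; group
      _ = _ := by rw [hφ, ← map_mul, nw_eq, n1_eq]
  have has1 : In (M.comap (MulAut.conj : K F →* MulAut (K F))) 1 := by
    intro t
    obtain ⟨c, hc0, hct⟩ := n1_conj (F := F) (r := 5) (by norm_num)
    have w5 : wT tabG2 [0] 5 = 1 := by decide +kernel
    rw [w5] at hct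
    have h1 : ∀ s : F, β (xe hD 4 s) = xe hD 1 (c * (τ s) ^ 3) := by
      intro s
      rw [hβ, MulAut.mul_apply, MulAut.mul_apply, hα 4 (by norm_num), hρ.h4, MulAut.conj_apply, hct]
    have h2 := h1 (τ.symm ((frobeniusEquiv F 3).symm (c⁻¹ * t)))
    have h3 : (((frobeniusEquiv F 3).symm (c⁻¹ * t)) : F) ^ 3 = c⁻¹ * t := by
      rw [← frobeniusEquiv_def, RingEquiv.apply_symm_apply]
    rw [RingEquiv.apply_symm_apply, h3, mul_inv_cancel_left₀ hc0] at h2
    rw [← h2]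
    exact hclosed _ (has4 _)
  have hclosed2 : ∀ m ∈ M.comap (MulAut.conj : K F →* MulAut (K F)),
      (MulAut.conj (nw F) * α') m ∈ M.comap (MulAut.conj : K F →* MulAut (K F)) := by
    intro m hm
    rw [← hββ, MulAut.mul_apply]
    exact hclosed _ (hclosed _ hm)
  have has0 := rot hclosed2 (hw_of hα') (by norm_num) has1
  have w1 : W 1 = 0 := by decide +kernel
  rw [w1] at has0
  exact range_le_of_comap (top_of hclosed2 (hw_of hα') has4 has0)

end Cfsg.Agent.H245.DG.G2
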